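import Mathlib

/-!
# Small extension lifting with test rings of finite type

A variant of `Groth.Agent.H23.SmallExt` (helper23) in which the test rings of the small extension
lifting property are required to be of finite type over the base.
-/

set_option autoImplicit false

namespace Groth.Agent.H1.SmallFT

universe u

open IsLocalRing

variable {R S : Type u} [CommRing R] [CommRing S] [Algebra R S] (q : Ideal S)

/-- The small extension lifting property at `q`, against test rings of finite type. -/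
def SmallLiftFT : Prop :=
  ∀ (B' B : Type u) [CommRing B'] [CommRing B] [IsLocalRing B'] [IsLocalRing B]
    [IsArtinianRing B'] [IsArtinianRing B] [Algebra R B'] [Algebra R B]
    [Algebra.FiniteType R B'] (π : B' →ₐ[R] B),
    Function.Surjective π →
    (∃ t : B', RingHom.ker π.toRingHom = Ideal.span {t} ∧
      ∀ a ∈ IsLocalRing.maximalIdeal B', a * t = 0) →
    ∀ g : S →ₐ[R] B, (IsLocalRing.maximalIdeal B).comap g = q →
      ∃ g' : S →ₐ[R] B', π.comp g' = g

variable {q}

theorem lift_fg (H : SmallLiftFT (R := R) q) : ∀ (n : ℕ) (E E₀ : Type u) [CommRing E] [CommRing E₀]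
    [IsLocalRing E] [IsLocalRing E₀] [IsArtinianRing E] [IsArtinianRing E₀] [Algebra R E]
    [Algebra R E₀] [Algebra.FiniteType R E] (π : E →ₐ[R] E₀) (_ : Function.Surjective π)
    (t : Fin n → E) (_ : RingHom.ker π.toRingHom = Ideal.span (Set.range t))
    (_ : ∀ a ∈ maximalIdeal E, ∀ i, a * t i = 0)
    (g : S →ₐ[R] E₀) (_ : (maximalIdeal E₀).comap g = q), ∃ g' : S →ₐ[R] E, π.comp g' = g := by
  intro n
  induction n with
  | zero =>
    intro E E₀ _ _ _ _ _ _ _ _ _ π hπ t ht _ g _
    have hbot : RingHom.ker π.toRingHom = ⊥ := by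
      rw [ht]
      have : Set.range t = ∅ := Set.range_eq_empty t
      rw [this, Ideal.span_empty]
    have hinj : Function.Injective π := (RingHom.injective_iff_ker_eq_bot π.toRingHom).mpr hbot
    let e : E ≃ₐ[R] E₀ := AlgEquiv.ofBijective π ⟨hinj, hπ⟩
    refine ⟨(e.symm : E₀ →ₐ[R] E).comp g, ?_⟩
    ext x
    exact e.apply_symm_apply (g x)
  | succ n ih =>
    intro E E₀ _ _ _ _ _ _ _ _ _ π hπ t ht hkill g hg
    set N' : Ideal E := Ideal.span (Set.range fun i : Fin n => t i.castSucc) with hN'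
    have hN'le : N' ≤ RingHom.ker π.toRingHom := by
      rw [ht]
      apply Ideal.span_mono
      rintro _ ⟨i, rfl⟩
      exact ⟨i.castSucc, rfl⟩
    let π₁ : E →ₐ[R] E ⧸ N' := Ideal.Quotient.mkₐ R N'
    let π₂ : E ⧸ N' →ₐ[R] E₀ := Ideal.Quotient.liftₐ N' π (fun a ha => hN'le ha)
    have hπ₂₁ : ∀ x, π₂ (π₁ x) = π x := fun x => rfl
    have hπ₁ : Function.Surjective π₁ := Ideal.Quotient.mk_surjective
    have hπ₂ : Function.Surjective π₂ := by
      intro y
      obtain ⟨x, rfl⟩ := hπ y
      exact ⟨π₁ x, rfl⟩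
    have hnt : Nontrivial (E ⧸ N') := hπ₂.nontrivial
    have hloc : IsLocalRing (E ⧸ N') :=
      IsLocalRing.of_surjective' (Ideal.Quotient.mk N') Ideal.Quotient.mk_surjective
    have hart : IsArtinianRing (E ⧸ N') :=
      Function.Surjective.isArtinianRing (f := Ideal.Quotient.mk N') Ideal.Quotient.mk_surjective
    have hl₁ : IsLocalHom (π₁ : E →+* E ⧸ N') := IsLocalHom.of_surjective _ hπ₁
    have hl₂ : IsLocalHom (π₂ : E ⧸ N' →+* E₀) := IsLocalHom.of_surjective _ hπ₂
    have hker₂ : RingHom.ker π₂.toRingHom = Ideal.span {π₁ (t (Fin.last n))} := by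
      apply le_antisymm
      · intro y hy
        obtain ⟨x, rfl⟩ := hπ₁ y
        have hx : x ∈ RingHom.ker π.toRingHom := hy
        rw [ht, Ideal.mem_span_range_iff_exists_fun] at hx
        obtain ⟨c, rfl⟩ := hx
        rw [map_sum, Fin.sum_univ_castSucc]
        apply Ideal.add_mem
        · apply Ideal.sum_mem
          intro i _
          have h0 : π₁ (c i.castSucc * t i.castSucc) = 0 := by
            change Ideal.Quotient.mk N' _ = 0
            rw [Ideal.Quotient.eq_zero_iff_mem]
            exact Ideal.mul_mem_left _ _ (Ideal.subset_span ⟨i, rfl⟩)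
          rw [h0]
          exact zero_mem _
        · rw [map_mul]
          exact Ideal.mul_mem_left _ _ (Ideal.subset_span rfl)
      · rw [Ideal.span_le]
        rintro _ rfl
        change π₂ (π₁ (t (Fin.last n))) = 0
        rw [hπ₂₁]
        have : t (Fin.last n) ∈ RingHom.ker π.toRingHom := by
          rw [ht]; exact Ideal.subset_span ⟨_, rfl⟩
        exact this
    have hkill₂ : ∀ a ∈ maximalIdeal (E ⧸ N'), a * π₁ (t (Fin.last n)) = 0 := by
      intro a ha
      obtain ⟨a₀, rfl⟩ := hπ₁ a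
      have ha₀ : a₀ ∈ maximalIdeal E := by
        rw [mem_maximalIdeal, mem_nonunits_iff] at ha ⊢
        exact fun hu => ha (hu.map π₁)
      rw [← map_mul, hkill a₀ ha₀, map_zero]
    have hft : Algebra.FiniteType R (E ⧸ N') :=
      Algebra.FiniteType.of_surjective (Ideal.Quotient.mkₐ R N') Ideal.Quotient.mk_surjective
    obtain ⟨g₁, hg₁⟩ := H (E ⧸ N') E₀ π₂ hπ₂ ⟨_, hker₂, hkill₂⟩ g hg
    have hg₁x : ∀ x, π₂ (g₁ x) = g x := fun x => AlgHom.congr_fun hg₁ x
    have hg₁q : (maximalIdeal (E ⧸ N')).comap g₁ = q := by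
      rw [← hg]
      ext x
      rw [Ideal.mem_comap, Ideal.mem_comap, ← hg₁x]
      rw [mem_maximalIdeal, mem_maximalIdeal, mem_nonunits_iff, mem_nonunits_iff]
      constructor
      · exact fun h hu => h (isUnit_of_map_unit (π₂ : E ⧸ N' →+* E₀) _ hu)
      · exact fun h hu => h (hu.map π₂)
    have hker₁ : RingHom.ker π₁.toRingHom = Ideal.span (Set.range fun i : Fin n => t i.castSucc) :=
      Ideal.Quotient.mkₐ_ker R N'
    obtain ⟨g', hg'⟩ := ih E (E ⧸ N') π₁ hπ₁ (fun i => t i.castSucc) hker₁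
      (fun a ha i => hkill a ha i.castSucc) g₁ hg₁q
    refine ⟨g', ?_⟩
    ext x
    have h1 : π₁ (g' x) = g₁ x := AlgHom.congr_fun hg' x
    change π (g' x) = g x
    rw [← hπ₂₁, h1, hg₁x]

end Groth.Agent.H1.SmallFT
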