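import Mathlib
import Groth.Agent.H1.SmallFT.Basic
import Groth.Agent.H23.AdicLocal2

/-!
# Small extension lifting against finite type test rings implies formal smoothness of the local
ring at a maximal ideal

A variant of `Groth.Agent.H23.SmallExt` (helper23).
-/

set_option autoImplicit false

namespace Groth.Agent.H1.SmallFT

universe u

open IsLocalRing Groth.Agent.H23.AdicLocal

/-- The lifting problems needed by `formallySmooth_of_lifts_local` are solvable under the small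
extension lifting property. -/
theorem exists_lift_aux {R S B₀ : Type u} [CommRing R] [CommRing S] [Algebra R S] [CommRing B₀]
    [Algebra R B₀] [IsLocalRing B₀] [IsNoetherianRing B₀]
    (q : Ideal S) [q.IsPrime] (H : SmallLiftFT (R := R) q)
    (hFT : ∀ k : ℕ, Algebra.FiniteType R (B₀ ⧸ (maximalIdeal B₀) ^ k))
    (J : Ideal B₀) [IsLocalRing (B₀ ⧸ J)] (e : (B₀ ⧸ J) ≃ₐ[R] Localization.AtPrime q) (k₁ : ℕ) :
    ∃ χ : (B₀ ⧸ J) →ₐ[R]
        B₀ ⧸ ((RingHom.ker (algebraMap B₀ (B₀ ⧸ J))) ^ 2 ⊔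
          (maximalIdeal (B₀ ⧸ J)).comap (Ideal.Quotient.mk J) *
            RingHom.ker (algebraMap B₀ (B₀ ⧸ J)) ⊔
            ((maximalIdeal (B₀ ⧸ J)).comap (Ideal.Quotient.mk J)) ^ (k₁ + 1)),
      ∀ x : B₀, χ (Ideal.Quotient.mk J x) - Ideal.Quotient.mk _ x ∈
        (RingHom.ker (algebraMap B₀ (B₀ ⧸ J))).map (Ideal.Quotient.mk _) := by
  classical
  have h𝔍 : RingHom.ker (algebraMap B₀ (B₀ ⧸ J)) = J := by
    rw [Ideal.Quotient.algebraMap_eq, Ideal.mk_ker]
  set 𝔍 : Ideal B₀ := RingHom.ker (algebraMap B₀ (B₀ ⧸ J)) with h𝔍def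
  set 𝔪' : Ideal B₀ := (maximalIdeal (B₀ ⧸ J)).comap (Ideal.Quotient.mk J) with h𝔪'
  have h𝔪'max : 𝔪'.IsMaximal :=
    Ideal.comap_isMaximal_of_surjective _ Ideal.Quotient.mk_surjective
  have h𝔪'eq : 𝔪' = maximalIdeal B₀ := IsLocalRing.eq_maximalIdeal h𝔪'max
  have h𝔍le : 𝔍 ≤ 𝔪' := by
    intro x hx
    rw [h𝔪', Ideal.mem_comap]
    have : Ideal.Quotient.mk J x = 0 := hx
    rw [this]; exact zero_mem _
  set 𝔞 : Ideal B₀ := 𝔍 ^ 2 ⊔ 𝔪' * 𝔍 ⊔ 𝔪' ^ (k₁ + 1) with h𝔞
  have h𝔞le : 𝔞 ≤ 𝔪' := by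
    refine sup_le (sup_le ?_ Ideal.mul_le_left) ?_
    · exact (Ideal.pow_le_self (by norm_num)).trans h𝔍le
    · exact Ideal.pow_le_self (by norm_num)
  have h𝔞ne : 𝔞 ≠ ⊤ := fun h => h𝔪'max.ne_top (top_le_iff.mp (h ▸ h𝔞le))
  -- the ring `E`
  have hEnt : Nontrivial (B₀ ⧸ 𝔞) := Ideal.Quotient.nontrivial_iff.mpr h𝔞ne
  have hEloc : IsLocalRing (B₀ ⧸ 𝔞) :=
    IsLocalRing.of_surjective' (Ideal.Quotient.mk 𝔞) Ideal.Quotient.mk_surjective
  have hmE : maximalIdeal (B₀ ⧸ 𝔞) = 𝔪'.map (Ideal.Quotient.mk 𝔞) := by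
    rw [h𝔪'eq]
    exact (IsLocalRing.map_maximalIdeal_of_surjective _ Ideal.Quotient.mk_surjective).symm
  have hEart : IsArtinianRing (B₀ ⧸ 𝔞) := by
    rw [isArtinianRing_iff_isNilpotent_maximalIdeal]
    refine ⟨k₁ + 1, ?_⟩
    rw [hmE, ← Ideal.map_pow, Ideal.zero_eq_bot, eq_bot_iff, Ideal.map_le_iff_le_comap]
    intro x hx
    rw [Ideal.mem_comap, Ideal.mem_bot, Ideal.Quotient.eq_zero_iff_mem]
    exact Ideal.mem_sup_right hx
  have hEft : Algebra.FiniteType R (B₀ ⧸ 𝔞) := by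
    have hle : (maximalIdeal B₀) ^ (k₁ + 1) ≤ 𝔞 := by
      rw [← h𝔪'eq]; exact le_sup_right
    have := hFT (k₁ + 1)
    exact Algebra.FiniteType.of_surjective (Ideal.Quotient.factorₐ R hle)
      (Ideal.Quotient.factor_surjective hle)
  set K : Ideal (B₀ ⧸ 𝔞) := 𝔍.map (Ideal.Quotient.mk 𝔞) with hK
  have hKle : K ≤ maximalIdeal (B₀ ⧸ 𝔞) := by
    rw [hmE]; exact Ideal.map_mono h𝔍le
  have hKne : K ≠ ⊤ := fun h =>
    (IsLocalRing.maximalIdeal.isMaximal (B₀ ⧸ 𝔞)).ne_top (top_le_iff.mp (h ▸ hKle))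
  have hE₀nt : Nontrivial ((B₀ ⧸ 𝔞) ⧸ K) := Ideal.Quotient.nontrivial_iff.mpr hKne
  have hE₀loc : IsLocalRing ((B₀ ⧸ 𝔞) ⧸ K) :=
    IsLocalRing.of_surjective' (Ideal.Quotient.mk K) Ideal.Quotient.mk_surjective
  have hE₀art : IsArtinianRing ((B₀ ⧸ 𝔞) ⧸ K) :=
    Function.Surjective.isArtinianRing (f := Ideal.Quotient.mk K) Ideal.Quotient.mk_surjective
  let π : (B₀ ⧸ 𝔞) →ₐ[R] (B₀ ⧸ 𝔞) ⧸ K := Ideal.Quotient.mkₐ R K
  have hπ : Function.Surjective π := Ideal.Quotient.mk_surjective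
  have hπloc : IsLocalHom (π : (B₀ ⧸ 𝔞) →+* (B₀ ⧸ 𝔞) ⧸ K) := IsLocalHom.of_surjective _ hπ
  obtain ⟨n, t, ht⟩ := Submodule.fg_iff_exists_fin_generating_family.mp (IsNoetherian.noetherian K)
  have hkerπ : RingHom.ker π.toRingHom = Ideal.span (Set.range t) := by
    rw [show Ideal.span (Set.range t) = K from ht]
    exact Ideal.Quotient.mkₐ_ker R K
  have hkillK : ∀ a ∈ maximalIdeal (B₀ ⧸ 𝔞), ∀ y ∈ K, a * y = 0 := by
    intro a ha y hy
    rw [hmE, Ideal.mem_map_iff_of_surjective _ Ideal.Quotient.mk_surjective] at ha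
    obtain ⟨a₀, ha₀, rfl⟩ := ha
    rw [hK, Ideal.mem_map_iff_of_surjective _ Ideal.Quotient.mk_surjective] at hy
    obtain ⟨y₀, hy₀, rfl⟩ := hy
    rw [← map_mul, Ideal.Quotient.eq_zero_iff_mem]
    exact Ideal.mem_sup_left (Ideal.mem_sup_right (Ideal.mul_mem_mul ha₀ hy₀))
  have hkill : ∀ a ∈ maximalIdeal (B₀ ⧸ 𝔞), ∀ i, a * t i = 0 := by
    intro a ha i
    apply hkillK a ha
    rw [← ht]
    exact Submodule.subset_span ⟨i, rfl⟩
  -- the map to lift
  have hJK : ∀ x ∈ J, ((Ideal.Quotient.mkₐ R K).comp (Ideal.Quotient.mkₐ R 𝔞)) x = 0 := by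
    intro x hx
    rw [AlgHom.comp_apply, Ideal.Quotient.mkₐ_eq_mk, Ideal.Quotient.mkₐ_eq_mk,
      Ideal.Quotient.eq_zero_iff_mem]
    exact Ideal.mem_map_of_mem _ (h𝔍 ▸ hx)
  let ψ : (B₀ ⧸ J) →ₐ[R] (B₀ ⧸ 𝔞) ⧸ K :=
    Ideal.Quotient.liftₐ J ((Ideal.Quotient.mkₐ R K).comp (Ideal.Quotient.mkₐ R 𝔞)) hJK
  have hψmk : ∀ x : B₀, ψ (Ideal.Quotient.mk J x) =
      Ideal.Quotient.mk K (Ideal.Quotient.mk 𝔞 x) := fun x => rfl
  have hψsurj : Function.Surjective ψ := by
    intro y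
    obtain ⟨y₁, rfl⟩ := Ideal.Quotient.mk_surjective y
    obtain ⟨y₀, rfl⟩ := Ideal.Quotient.mk_surjective y₁
    exact ⟨Ideal.Quotient.mk J y₀, hψmk y₀⟩
  let lam : Localization.AtPrime q →ₐ[R] (B₀ ⧸ 𝔞) ⧸ K := ψ.comp (e.symm : _ →ₐ[R] _)
  have hlamsurj : Function.Surjective lam := hψsurj.comp e.symm.surjective
  have hlamloc : IsLocalHom (lam : Localization.AtPrime q →+* (B₀ ⧸ 𝔞) ⧸ K) :=
    IsLocalHom.of_surjective _ hlamsurj
  let g₀ : S →ₐ[R] (B₀ ⧸ 𝔞) ⧸ K := lam.comp (IsScalarTower.toAlgHom R S (Localization.AtPrime q))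
  have hg₀x : ∀ s, g₀ s = lam (algebraMap S (Localization.AtPrime q) s) := fun s => rfl
  have hg₀ : (maximalIdeal ((B₀ ⧸ 𝔞) ⧸ K)).comap g₀ = q := by
    ext s
    rw [Ideal.mem_comap, hg₀x, ← IsLocalization.AtPrime.to_map_mem_maximal_iff
      (Localization.AtPrime q) q s, mem_maximalIdeal, mem_maximalIdeal, mem_nonunits_iff,
      mem_nonunits_iff]
    constructor
    · exact fun h hu => h (hu.map lam)
    · exact fun h hu => h (hlamloc.map_nonunit (algebraMap S (Localization.AtPrime q) s) hu)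
  obtain ⟨g', hg'⟩ := lift_fg H n (B₀ ⧸ 𝔞) ((B₀ ⧸ 𝔞) ⧸ K) π hπ t hkerπ hkill g₀ hg₀
  have hg'x : ∀ s, π (g' s) = g₀ s := fun s => AlgHom.congr_fun hg' s
  have hunit : ∀ s : q.primeCompl, IsUnit ((g' : S →+* B₀ ⧸ 𝔞) s) := by
    intro s
    apply hπloc.map_nonunit (g' s)
    change IsUnit (π (g' s))
    rw [hg'x, hg₀x]
    exact (IsLocalization.map_units (Localization.AtPrime q) s).map lam
  let χ₀ : Localization.AtPrime q →+* B₀ ⧸ 𝔞 :=
    IsLocalization.lift (M := q.primeCompl) (g := (g' : S →+* B₀ ⧸ 𝔞)) hunit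
  have hχ₀ : ∀ s, χ₀ (algebraMap S (Localization.AtPrime q) s) = g' s :=
    fun s => IsLocalization.lift_eq hunit s
  let χ' : Localization.AtPrime q →ₐ[R] B₀ ⧸ 𝔞 :=
    { χ₀ with
      commutes' := fun r => by
        change χ₀ (algebraMap R _ r) = _
        rw [IsScalarTower.algebraMap_apply R S (Localization.AtPrime q), hχ₀]
        exact g'.commutes r }
  have hχ'lam : ∀ c, π (χ' c) = lam c := by
    intro c
    have h1 : (π : (B₀ ⧸ 𝔞) →+* (B₀ ⧸ 𝔞) ⧸ K).comp χ₀ = (lam : Localization.AtPrime q →+* _) := by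
      apply IsLocalization.ringHom_ext q.primeCompl
      ext s
      simp only [RingHom.comp_apply]
      rw [hχ₀]
      exact (hg'x s).trans (hg₀x s)
    exact RingHom.congr_fun h1 c
  refine ⟨χ'.comp (e : (B₀ ⧸ J) →ₐ[R] _), ?_⟩
  intro x
  rw [← Ideal.Quotient.eq]
  change π (χ' (e (Ideal.Quotient.mk J x))) = _
  rw [hχ'lam]
  change ψ (e.symm (e (Ideal.Quotient.mk J x))) = _
  rw [e.symm_apply_apply, hψmk]

/-- Small extension lifting at `q` implies formal smoothness of the local ring at `q`. -/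
theorem formallySmooth_atPrime_of_smallLiftFT {R P S : Type u} [CommRing R] [CommRing P] [CommRing S]
    [Algebra R P] [Algebra P S] [Algebra R S] [IsScalarTower R P S] [IsNoetherianRing P]
    [Algebra.FormallySmooth R P] [Algebra.FiniteType R P]
    (hsurj : Function.Surjective (algebraMap P S)) (q : Ideal S)
    [q.IsMaximal] (H : SmallLiftFT (R := R) q) :
    Algebra.FormallySmooth R (Localization.AtPrime q) := by
  classical
  have : Algebra.FormallySmooth P (Localization.AtPrime (q.comap (algebraMap P S))) :=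
    Algebra.FormallySmooth.of_isLocalization (q.comap (algebraMap P S)).primeCompl
  have : Algebra.FormallySmooth R (Localization.AtPrime (q.comap (algebraMap P S))) :=
    Algebra.FormallySmooth.comp R P _
  let ν₀ : Localization.AtPrime (q.comap (algebraMap P S)) →+* Localization.AtPrime q :=
    Localization.localRingHom (q.comap (algebraMap P S)) q (algebraMap P S) rfl
  have hν₀ : Function.Surjective ν₀ := RingHom.surjective_localRingHom_of_surjective _ hsurj q
  let ν : Localization.AtPrime (q.comap (algebraMap P S)) →ₐ[R] Localization.AtPrime q :=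
    { ν₀ with
      commutes' := fun a => by
        change ν₀ (algebraMap R _ a) = _
        rw [IsScalarTower.algebraMap_apply R P (Localization.AtPrime (q.comap (algebraMap P S))),
          Localization.localRingHom_to_map, ← IsScalarTower.algebraMap_apply,
          ← IsScalarTower.algebraMap_apply] }
  have hν : Function.Surjective ν := hν₀
  let e : (Localization.AtPrime (q.comap (algebraMap P S)) ⧸ RingHom.ker ν) ≃ₐ[R]
      Localization.AtPrime q := Ideal.quotientKerAlgEquivOfSurjective hν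
  have hloc : IsLocalRing (Localization.AtPrime (q.comap (algebraMap P S)) ⧸ RingHom.ker ν) :=
    e.symm.toRingEquiv.isLocalRing
  have he : ∀ x, e (Ideal.Quotient.mk _ x) = ν x := fun x => rfl
  have hq'max : (q.comap (algebraMap P S)).IsMaximal :=
    Ideal.comap_isMaximal_of_surjective _ hsurj
  have hFT : ∀ k : ℕ, Algebra.FiniteType R
      (Localization.AtPrime (q.comap (algebraMap P S)) ⧸
        (maximalIdeal (Localization.AtPrime (q.comap (algebraMap P S)))) ^ k) := by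
    intro k
    have e₀ := (IsLocalization.AtPrime.equivQuotMaximalIdealPow (q.comap (algebraMap P S))
      (Localization.AtPrime (q.comap (algebraMap P S))) k).restrictScalars R
    have : Algebra.FiniteType R (P ⧸ (q.comap (algebraMap P S)) ^ k) :=
      Algebra.FiniteType.of_surjective (Ideal.Quotient.mkₐ R _) Ideal.Quotient.mk_surjective
    exact Algebra.FiniteType.equiv this e₀
  have key : Algebra.FormallySmooth R
      (Localization.AtPrime (q.comap (algebraMap P S)) ⧸ RingHom.ker ν) := by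
    apply formallySmooth_of_lifts_local
    intro k₁
    exact exists_lift_aux q H hFT (RingHom.ker ν) e k₁
  exact Algebra.FormallySmooth.of_equiv e

/-- `R` Noetherian, `S` of finite type over `R`, `q` a maximal ideal of `S`: if `S → B` lifts along
small extensions `B' → B` of Artinian local `R`-algebras with `B'` of finite type over `R`, then
`R → S` is smooth at `q`. -/
theorem isSmoothAt_of_smallLiftFT {R S : Type u} [CommRing R] [IsNoetherianRing R]
    [CommRing S] [Algebra R S] [Algebra.FiniteType R S] (q : Ideal S) [q.IsMaximal]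
    (H : SmallLiftFT (R := R) q) : Algebra.IsSmoothAt R q := by
  classical
  obtain ⟨n, f, hf⟩ := Algebra.FiniteType.iff_quotient_mvPolynomial''.mp
    (inferInstance : Algebra.FiniteType R S)
  let algPS : Algebra (MvPolynomial (Fin n) R) S := f.toRingHom.toAlgebra
  have tow : IsScalarTower R (MvPolynomial (Fin n) R) S :=
    IsScalarTower.of_algebraMap_eq (fun a => (f.commutes a).symm)
  have hsurj : Function.Surjective (algebraMap (MvPolynomial (Fin n) R) S) := hf
  exact formallySmooth_atPrime_of_smallLiftFT (P := MvPolynomial (Fin n) R) hsurj q H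

end Groth.Agent.H1.SmallFT
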